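import Mathlib
import Groth.Agent.Lib.Helper18.FieldBC.LengthAlg

/-!
# Identifying a localization at a prime with a partial localization

* `isLocalization_atPrime_of_nil`: if `T'` is the localization of the `R`-algebra `T` at the image
  of the complement of `q₀ = q ∩ R`, and every non-unit of `T'` is nilpotent, then `T'` is the
  localization of `T` at `q`.
* `length_atPrime_of_isLocalization`, `length_atPrime_of_ringEquiv`: transport of lengths.
-/

set_option autoImplicit false
universe u v
open TensorProduct

namespace Groth.Agent.Lib.Helper18.MinLen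

theorem isLocalization_atPrime_of_nil {R T T' : Type*} [CommRing R] [CommRing T] [CommRing T']
    [Algebra R T] [Algebra T T'] (q : Ideal T) [q.IsPrime] (q₀ : Ideal R) [q₀.IsPrime]
    (hq₀ : q₀ = q.comap (algebraMap R T))
    [IsLocalization (Algebra.algebraMapSubmonoid T q₀.primeCompl) T']
    (hnil : ∀ x : T', ¬ IsUnit x → IsNilpotent x) :
    IsLocalization.AtPrime T' q := by
  have h₁ : Algebra.algebraMapSubmonoid T q₀.primeCompl ≤ q.primeCompl := by
    rintro _ ⟨r, hr, rfl⟩
    intro hmem
    apply hr
    rw [hq₀]
    exact hmem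
  refine IsLocalization.of_le (M := Algebra.algebraMapSubmonoid T q₀.primeCompl) (S := T')
    q.primeCompl h₁ ?_
  intro r hr
  by_contra hu
  obtain ⟨n, hn⟩ := hnil _ hu
  rw [← map_pow] at hn
  obtain ⟨m, hm⟩ := (IsLocalization.map_eq_zero_iff
    (Algebra.algebraMapSubmonoid T q₀.primeCompl) T' (r ^ n)).1 hn
  have hmem : (m : T) * r ^ n ∈ q := by
    rw [hm]
    exact q.zero_mem
  rcases Ideal.IsPrime.mem_or_mem ‹q.IsPrime› hmem with h | h
  · exact h₁ m.2 h
  · exact hr (Ideal.IsPrime.mem_of_pow_mem ‹q.IsPrime› n h)

theorem length_atPrime_of_isLocalization {T T' : Type*} [CommRing T] [CommRing T'] [Algebra T T']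
    (q : Ideal T) [q.IsPrime] [IsLocalization.AtPrime T' q] :
    Module.length (Localization.AtPrime q) (Localization.AtPrime q) = Module.length T' T' :=
  Groth.Agent.Lib.Helper18.FieldBC.length_self_eq_of_ringEquiv
    (IsLocalization.algEquiv q.primeCompl (Localization.AtPrime q) T').toRingEquiv

theorem length_atPrime_of_ringEquiv {A B : Type*} [CommRing A] [CommRing B] (e : A ≃+* B)
    (q : Ideal A) [q.IsPrime] (q' : Ideal B) [q'.IsPrime] (h : q = q'.comap (e : A →+* B)) :
    Module.length (Localization.AtPrime q) (Localization.AtPrime q) =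
      Module.length (Localization.AtPrime q') (Localization.AtPrime q') := by
  have H : q.primeCompl.map e.toMonoidHom = q'.primeCompl := by
    ext y
    constructor
    · rintro ⟨x, hx, rfl⟩
      intro hy
      apply hx
      rw [h]
      exact hy
    · intro hy
      refine ⟨e.symm y, ?_, e.apply_symm_apply y⟩
      intro hx
      apply hy
      rw [h] at hx
      have : e (e.symm y) ∈ q' := hx
      rwa [e.apply_symm_apply] at this
  exact Groth.Agent.Lib.Helper18.FieldBC.length_self_eq_of_ringEquiv
    (IsLocalization.ringEquivOfRingEquiv (Localization.AtPrime q) (Localization.AtPrime q') e H)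

end Groth.Agent.Lib.Helper18.MinLen
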