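import Mathlib

/-!
# Reducedness of `E₁ ⊗[k] K` for a separably generated extension `E₁ / k`

* `isDomain_fracTensor`: if `B ⊗[k] K` is a domain into which `B` injects, then
  `Frac B ⊗[k] K` is a domain.
* `isDomain_adjoin_tensor`: for an algebraically independent family `x` in `L / k`,
  `k(x) ⊗[k] K` is a domain.
* `isReduced_tensor_of_sep`: if `E₀ ⊗[k] K` is a domain and `E₁ / E₀` is finite separable, then
  `E₁ ⊗[k] K` is reduced.
-/

set_option autoImplicit false
universe u v
open TensorProduct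

namespace Groth.Agent.Lib.Helper18.MinLen

/-- If `B ⊗[A] C` is a domain into which `B` injects, then `Frac B ⊗[A] C` is a domain. -/
theorem isDomain_fracTensor (A : Type*) [CommRing A] (B : Type*) [CommRing B] [IsDomain B]
    [Algebra A B] (K : Type*) [Field K] [Algebra A K] [Algebra B K] [IsScalarTower A B K]
    [IsFractionRing B K] (C : Type*) [CommRing C] [Algebra A C] [IsDomain (B ⊗[A] C)]
    (hinj : Function.Injective (algebraMap B (B ⊗[A] C))) : IsDomain (K ⊗[A] C) := by
  let T := B ⊗[A] C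
  let T' := K ⊗[A] C
  let i : T →ₐ[B] T' :=
    Algebra.TensorProduct.map (IsScalarTower.toAlgHom B B K) (AlgHom.id A C)
  letI : Algebra T T' := i.toRingHom.toAlgebra
  haveI : IsScalarTower B T T' := .of_algebraMap_eq (fun x => (i.commutes x).symm)
  have H : (algebraMap T T').comp Algebra.TensorProduct.includeRight.toRingHom =
      Algebra.TensorProduct.includeRight.toRingHom := by
    ext x
    simp [RingHom.algebraMap_toAlgebra, i, T, T']
  haveI : IsLocalization (Algebra.algebraMapSubmonoid T (nonZeroDivisors B)) T' :=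
    IsLocalization.tensorProduct_tensorProduct A C (nonZeroDivisors B) K H
  have hM : Algebra.algebraMapSubmonoid T (nonZeroDivisors B) ≤ nonZeroDivisors T := by
    rintro _ ⟨c, hc, rfl⟩
    refine mem_nonZeroDivisors_of_ne_zero ?_
    rw [Ne, map_eq_zero_iff _ hinj]
    exact nonZeroDivisors.ne_zero hc
  exact IsLocalization.isDomain_of_le_nonZeroDivisors T' hM

section

variable {k : Type u} {K : Type u} [Field k] [Field K] [Algebra k K]

/-- `k[ι] ⊗[k] K` is a domain. -/
theorem isDomain_mvPolynomial_tensor (ι : Type*) : IsDomain (MvPolynomial ι k ⊗[k] K) := by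
  let e : MvPolynomial ι k ⊗[k] K ≃+* MvPolynomial ι K :=
    ((Algebra.TensorProduct.comm k (MvPolynomial ι k) K).trans
      ((MvPolynomial.algebraTensorAlgEquiv k K).restrictScalars k)).toRingEquiv
  exact e.toMulEquiv.isDomain _

/-- `k(ι) ⊗[k] K` is a domain. -/
theorem isDomain_fractionRing_mvPolynomial_tensor (ι : Type*) :
    IsDomain (FractionRing (MvPolynomial ι k) ⊗[k] K) := by
  haveI := isDomain_mvPolynomial_tensor (k := k) (K := K) ι
  refine isDomain_fracTensor k (MvPolynomial ι k) (FractionRing (MvPolynomial ι k)) K ?_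
  exact Algebra.TensorProduct.includeLeft_injective (S := MvPolynomial ι k)
    (algebraMap k K).injective

/-- For an algebraically independent family `x` in `L / k`, `k(x) ⊗[k] K` is a domain. -/
theorem isDomain_adjoin_tensor {L : Type u} [Field L] [Algebra k L] {ι : Type*} {x : ι → L}
    (hx : AlgebraicIndependent k x) :
    IsDomain ((IntermediateField.adjoin k (Set.range x)) ⊗[k] K) := by
  haveI := isDomain_fractionRing_mvPolynomial_tensor (k := k) (K := K) ι
  let e : (FractionRing (MvPolynomial ι k) ⊗[k] K) ≃ₐ[k]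
      ((IntermediateField.adjoin k (Set.range x)) ⊗[k] K) :=
    Algebra.TensorProduct.congr hx.aevalEquivField AlgEquiv.refl
  exact e.symm.toRingEquiv.toMulEquiv.isDomain _

end

section

variable {k E₀ E₁ K : Type u} [Field k] [Field E₀] [Field E₁] [Field K]
  [Algebra k E₀] [Algebra k E₁] [Algebra E₀ E₁] [IsScalarTower k E₀ E₁] [Algebra k K]

/-- If `E₀ ⊗[k] K` is a domain and `E₁ / E₀` is finite separable, then `E₁ ⊗[k] K` is
reduced. -/
theorem isReduced_tensor_of_sep [FiniteDimensional E₀ E₁] [Algebra.IsSeparable E₀ E₁]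
    [IsDomain (E₀ ⊗[k] K)] : IsReduced (E₁ ⊗[k] K) := by
  let R₀ := E₀ ⊗[k] K
  let K' := FractionRing R₀
  -- `K' ⊗[E₀] E₁` is reduced
  haveI : Algebra.FormallyUnramified E₀ E₁ := Algebra.FormallyUnramified.of_isSeparable E₀ E₁
  haveI : Algebra.FormallyUnramified K' (K' ⊗[E₀] E₁) := inferInstance
  haveI : Algebra.EssFiniteType K' (K' ⊗[E₀] E₁) := inferInstance
  haveI hred : IsReduced (K' ⊗[E₀] E₁) :=
    Algebra.FormallyUnramified.isReduced_of_field K' (K' ⊗[E₀] E₁)
  -- the chain of maps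
  let e₁ : E₁ ⊗[E₀] (E₀ ⊗[k] K) ≃ₐ[E₀] E₁ ⊗[k] K :=
    Algebra.TensorProduct.cancelBaseChange k E₀ E₀ E₁ K
  let e₂ : E₁ ⊗[E₀] R₀ ≃ₐ[E₀] R₀ ⊗[E₀] E₁ := Algebra.TensorProduct.comm E₀ E₁ R₀
  let j : R₀ ⊗[E₀] E₁ →ₐ[E₀] K' ⊗[E₀] E₁ :=
    Algebra.TensorProduct.map (IsScalarTower.toAlgHom E₀ R₀ K') (AlgHom.id E₀ E₁)
  have hj : Function.Injective j :=
    Module.Flat.rTensor_preserves_injective_linearMap (M := E₁)
      (IsScalarTower.toAlgHom E₀ R₀ K').toLinearMap (IsFractionRing.injective R₀ K')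
  let f : E₁ ⊗[k] K →ₐ[E₀] K' ⊗[E₀] E₁ := (j.comp e₂.toAlgHom).comp e₁.symm.toAlgHom
  have hf : Function.Injective f := by
    show Function.Injective (j ∘ e₂ ∘ e₁.symm)
    exact hj.comp (e₂.injective.comp e₁.symm.injective)
  exact isReduced_of_injective f hf

end

end Groth.Agent.Lib.Helper18.MinLen
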