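import Mathlib
import Groth.Agent.Lib.Helper18.Insep.PowLength
import Groth.Agent.Lib.Helper18.MinLen.LocIso
import Groth.Agent.Lib.Helper18.MinLen.Reduced

/-!
# Multiplicities of the components of `L ⊗[k] K`

For a tower `k ⊆ E ⊆ L` with `L / E` finite purely inseparable and `E ⊗[k] K` reduced, the
localization of `L ⊗[k] K` at a minimal prime has length a power of the exponential characteristic.
-/

set_option autoImplicit false
universe u
open TensorProduct

namespace Groth.Agent.Lib.Helper18.MinLen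

section setup

variable (k K E L : Type u) [Field k] [Field K] [Field E] [Field L]
  [Algebra k K] [Algebra k E] [Algebra k L] [Algebra E L] [IsScalarTower k E L]

/-- The comparison map `E ⊗[k] K → L ⊗[k] K`. -/
noncomputable def cmp : (E ⊗[k] K) →ₐ[E] (L ⊗[k] K) :=
  Algebra.TensorProduct.map (Algebra.ofId E L) (AlgHom.id k K)

@[simp]
theorem cmp_tmul (e : E) (x : K) : cmp k K E L (e ⊗ₜ x) = (algebraMap E L e) ⊗ₜ x := by
  simp [cmp]

attribute [local instance] Algebra.TensorProduct.rightAlgebra in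
theorem length_atPrime_eq_pow_aux (p : ℕ) [ExpChar k p] [FiniteDimensional E L]
    [IsPurelyInseparable E L]
    (q : Ideal (L ⊗[k] K)) [q.IsPrime] (q₀ : Ideal (E ⊗[k] K)) [q₀.IsPrime]
    (hq₀ : q₀ = q.comap (cmp k K E L).toRingHom)
    (F : Type u) [Field F] [Algebra (E ⊗[k] K) F] [IsLocalization.AtPrime F q₀] :
    ∃ n : ℕ, Module.length (Localization.AtPrime q) (Localization.AtPrime q) = (p ^ n : ℕ) := by
  letI algRT : Algebra (E ⊗[k] K) (L ⊗[k] K) := (cmp k K E L).toRingHom.toAlgebra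
  haveI : IsScalarTower E (E ⊗[k] K) (L ⊗[k] K) :=
    .of_algebraMap_eq (fun x => ((cmp k K E L).commutes x).symm)
  have H : (algebraMap (E ⊗[k] K) (L ⊗[k] K)).comp Algebra.TensorProduct.includeRight.toRingHom =
      Algebra.TensorProduct.includeRight.toRingHom := by
    ext x
    show cmp k K E L ((1 : E) ⊗ₜ x) = (1 : L) ⊗ₜ x
    simp
  have hpo : Algebra.IsPushout E L (E ⊗[k] K) (L ⊗[k] K) :=
    Algebra.IsPushout.tensorProduct_tensorProduct k K E L H
  haveI hpo' : Algebra.IsPushout E (E ⊗[k] K) L (L ⊗[k] K) := hpo.symm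
  -- `F` as an `E`-algebra
  letI algEF : Algebra E F := ((algebraMap (E ⊗[k] K) F).comp (algebraMap E (E ⊗[k] K))).toAlgebra
  haveI : IsScalarTower E (E ⊗[k] K) F := .of_algebraMap_eq (fun _ => rfl)
  haveI : ExpChar E p := expChar_of_injective_algebraMap (algebraMap k E).injective p
  -- the target ring
  haveI : IsScalarTower E (E ⊗[k] K) (F ⊗[E] L) := inferInstance
  let f : (E ⊗[k] K) →ₐ[E] (F ⊗[E] L) := IsScalarTower.toAlgHom E (E ⊗[k] K) (F ⊗[E] L)
  let g : L →ₐ[E] (F ⊗[E] L) := IsScalarTower.toAlgHom E L (F ⊗[E] L)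
  let ψ : (L ⊗[k] K) →ₐ[E] (F ⊗[E] L) :=
    Algebra.pushoutDesc (L ⊗[k] K) f g (fun x y => mul_comm _ _)
  letI algTT' : Algebra (L ⊗[k] K) (F ⊗[E] L) := ψ.toRingHom.toAlgebra
  haveI : IsScalarTower (E ⊗[k] K) (L ⊗[k] K) (F ⊗[E] L) :=
    .of_algebraMap_eq (fun x => (Algebra.pushoutDesc_left (L ⊗[k] K) f g _ x).symm)
  haveI : IsScalarTower L (L ⊗[k] K) (F ⊗[E] L) :=
    .of_algebraMap_eq (fun x => (Algebra.pushoutDesc_right (L ⊗[k] K) f g _ x).symm)
  haveI : IsScalarTower E (L ⊗[k] K) (F ⊗[E] L) :=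
    .of_algebraMap_eq (fun x => (ψ.commutes x).symm)
  have hpo2 : Algebra.IsPushout (E ⊗[k] K) F (L ⊗[k] K) (F ⊗[E] L) :=
    (Algebra.IsPushout.comp_iff E (E ⊗[k] K) L (S' := L ⊗[k] K) (T := F)
      (T' := F ⊗[E] L)).1 inferInstance
  haveI hloc : IsLocalization (Algebra.algebraMapSubmonoid (L ⊗[k] K) q₀.primeCompl)
      (F ⊗[E] L) :=
    (Algebra.isLocalization_iff_isPushout q₀.primeCompl F).2 hpo2.symm
  haveI := Groth.Agent.Lib.Helper18.InsepLen.subsingleton_left E L F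
  haveI : IsLocalization.AtPrime (F ⊗[E] L) q :=
    isLocalization_atPrime_of_nil q q₀ hq₀
      (fun x hx => Groth.Agent.Lib.Helper18.InsepLen.isNilpotent_of_not_isUnit hx)
  obtain ⟨n, hn⟩ := Groth.Agent.Lib.Helper18.InsepLen.length_left_eq_pow E L F p
  exact ⟨n, (length_atPrime_of_isLocalization (T' := F ⊗[E] L) q).trans hn⟩

theorem length_atPrime_eq_pow (p : ℕ) [ExpChar k p] [FiniteDimensional E L]
    [IsPurelyInseparable E L] [IsReduced (E ⊗[k] K)]
    (q : Ideal (L ⊗[k] K)) [q.IsPrime] (hq : q ∈ minimalPrimes (L ⊗[k] K)) :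
    ∃ n : ℕ, Module.length (Localization.AtPrime q) (Localization.AtPrime q) = (p ^ n : ℕ) := by
  letI algRT : Algebra (E ⊗[k] K) (L ⊗[k] K) := (cmp k K E L).toRingHom.toAlgebra
  haveI : IsScalarTower E (E ⊗[k] K) (L ⊗[k] K) :=
    .of_algebraMap_eq (fun x => ((cmp k K E L).commutes x).symm)
  have H : (algebraMap (E ⊗[k] K) (L ⊗[k] K)).comp Algebra.TensorProduct.includeRight.toRingHom =
      Algebra.TensorProduct.includeRight.toRingHom := by
    ext x
    show cmp k K E L ((1 : E) ⊗ₜ x) = (1 : L) ⊗ₜ x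
    simp
  have hpo : Algebra.IsPushout E L (E ⊗[k] K) (L ⊗[k] K) :=
    Algebra.IsPushout.tensorProduct_tensorProduct k K E L H
  have hpo' : Algebra.IsPushout E (E ⊗[k] K) L (L ⊗[k] K) := hpo.symm
  haveI : Module.Flat (E ⊗[k] K) (L ⊗[k] K) :=
    Module.Flat.isBaseChange E (E ⊗[k] K) L (L ⊗[k] K) hpo'.out
  let q₀ : Ideal (E ⊗[k] K) := q.comap (algebraMap (E ⊗[k] K) (L ⊗[k] K))
  haveI hq₀p : q₀.IsPrime := Ideal.comap_isPrime _ _
  have hq₀ : q₀ ∈ minimalPrimes (E ⊗[k] K) := by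
    refine ⟨⟨hq₀p, bot_le⟩, fun p' hp' hle => ?_⟩
    haveI := hp'.1
    haveI : q.LiesOver q₀ := ⟨rfl⟩
    obtain ⟨P, hPq, hP, hPp'⟩ := Ideal.exists_ideal_le_liesOver_of_le (p := p') (q := q₀) q hle
    have hqP : q ≤ P := hq.2 ⟨hP, bot_le⟩ hPq
    have hPeq : P = q := le_antisymm hPq hqP
    rw [hPp'.over, hPeq]
  haveI : Ring.KrullDimLE 0 (Localization.AtPrime q₀) :=
    .of_isLocalization q₀ hq₀ (Localization.AtPrime q₀)
  letI : Field (Localization.AtPrime q₀) := Ring.KrullDimLE.isField_of_isReduced.toField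
  exact length_atPrime_eq_pow_aux k K E L p q q₀ rfl (Localization.AtPrime q₀)

end setup

end Groth.Agent.Lib.Helper18.MinLen
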