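import Mathlib
import Groth.Agent.Lib.Helper18.MinLen.Main

/-!
# The multiplicities of the components of `K ⊗[k] L` are powers of the exponential characteristic
-/

set_option autoImplicit false
universe u
open TensorProduct

namespace Groth.Agent.Lib.Helper18.MinLen

theorem main1875 (k K L : Type u) [Field k] [Field K] [Field L] [Algebra k K] [Algebra k L]
    (hL : (⊤ : IntermediateField k L).FG) (p : ℕ) [ExpChar k p]
    (q : Ideal (K ⊗[k] L)) [q.IsPrime] (hq : q ∈ minimalPrimes (K ⊗[k] L)) :
    ∃ n : ℕ, Module.length (Localization.AtPrime q) (Localization.AtPrime q) = (p ^ n : ℕ) := by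
  haveI : Algebra.EssFiniteType k L := IntermediateField.fg_top_iff.mp hL
  obtain ⟨s, hs⟩ := exists_finset_isTranscendenceBasis k L
  let E₀ : IntermediateField k L :=
    IntermediateField.adjoin k (Set.range (Subtype.val : s → L))
  haveI : Algebra.IsAlgebraic E₀ L := hs.isAlgebraic_field
  haveI : Algebra.EssFiniteType E₀ L := Algebra.EssFiniteType.of_comp k E₀ L
  haveI : FiniteDimensional E₀ L := Algebra.finite_of_essFiniteType_of_isAlgebraic
  let E₁ : IntermediateField E₀ L := separableClosure E₀ L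
  haveI : IsPurelyInseparable E₁ L := separableClosure.isPurelyInseparable E₀ L
  haveI : Algebra.IsSeparable E₀ E₁ := separableClosure.isSeparable E₀ L
  haveI : FiniteDimensional E₀ E₁ := inferInstance
  haveI : FiniteDimensional E₁ L := inferInstance
  haveI : IsDomain (E₀ ⊗[k] K) := isDomain_adjoin_tensor (K := K) hs.1
  haveI : IsScalarTower k E₁ L := IsScalarTower.of_algebraMap_eq (fun x => rfl)
  haveI : IsReduced (E₁ ⊗[k] K) := isReduced_tensor_of_sep (E₀ := E₀)
  -- flip the tensor product
  let e : (K ⊗[k] L) ≃+* (L ⊗[k] K) := (Algebra.TensorProduct.comm k K L).toRingEquiv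
  let q' : Ideal (L ⊗[k] K) := q.comap (e.symm : (L ⊗[k] K) →+* (K ⊗[k] L))
  haveI : q'.IsPrime := Ideal.comap_isPrime _ _
  have hq' : q' ∈ minimalPrimes (L ⊗[k] K) := by
    have h1 := Ideal.minimalPrimes_comap_of_surjective
      (f := (e.symm : (L ⊗[k] K) →+* (K ⊗[k] L))) e.symm.surjective hq
    have h2 : Ideal.comap (e.symm : (L ⊗[k] K) →+* (K ⊗[k] L)) ⊥ = ⊥ :=
      Ideal.comap_bot_of_injective _ e.symm.injective
    rwa [h2] at h1
  have h : q = q'.comap (e : (K ⊗[k] L) →+* (L ⊗[k] K)) := by
    ext x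
    simp [q', Ideal.mem_comap]
  obtain ⟨n, hn⟩ := length_atPrime_eq_pow k K E₁ L p q' hq'
  exact ⟨n, (length_atPrime_of_ringEquiv e q q' h).trans hn⟩

end Groth.Agent.Lib.Helper18.MinLen
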